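import Cfsg.Agent.McLRecog.Top.Defs

/-! Generated: kernel checks. -/

set_option Elab.async false

namespace Cfsg.Agent.McLRecog.Top

open Cfsg.Agent.CosetCert

theorem log_okAt160000 : allFrom data.checkLog 160000 1957 = true := by decide +kernel

end Cfsg.Agent.McLRecog.Top
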