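import Cfsg.Agent.McLRecog.Top.Defs

/-! Generated: kernel checks. -/

set_option Elab.async false

namespace Cfsg.Agent.McLRecog.Top

open Cfsg.Agent.CosetCert

theorem coset_okAt18000 : allFrom data.checkCoset 18000 750 = true := by decide +kernel

theorem coset_okAt18750 : allFrom data.checkCoset 18750 750 = true := by decide +kernel

theorem coset_okAt19500 : allFrom data.checkCoset 19500 750 = true := by decide +kernel

theorem coset_okAt20250 : allFrom data.checkCoset 20250 750 = true := by decide +kernel

theorem coset_okAt21000 : allFrom data.checkCoset 21000 750 = true := by decide +kernel

theorem coset_okAt21750 : allFrom data.checkCoset 21750 525 = true := by decide +kernel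

end Cfsg.Agent.McLRecog.Top
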