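import Cfsg.Agent.McLRecog.Top.FactsData
import Cfsg.Agent.McLRecog.Top.JustData
import Cfsg.Agent.McLRecog.Top.TableData
import Cfsg.Agent.CosetCert.CoxExtra
import Cfsg.Agent.CosetCert.Pack

/-! Generated: the certificate. -/

set_option maxRecDepth 100000

namespace Cfsg.Agent.McLRecog.Top

open Cfsg.Agent.CosetCert

noncomputable def data : Data where
  K := 8
  n := 22275
  M := 41393
  Nf := 161957
  nR := 61
  iv := fun x => if x < 4 then x + 4 else if x < 8 then x - 4 else x
  F := get48 factStore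
  J := getVar justStore
  E := get48 edgeStore
  L := get48 repStore
  P := get48 treeStore
  W := [
    [0, 0],
    [4, 4],
    [3, 3, 3],
    [6, 3, 6, 6, 3, 6],
    [3, 6, 6, 3, 6, 6],
    [7, 2, 2, 7, 2, 2],
    [2, 2, 2, 2, 2, 2, 2, 2],
    [3, 0, 3, 0, 3, 4, 3, 4],
    [3, 0, 3, 4, 3, 4, 3, 4],
    [3, 5, 3, 5, 3, 5, 3, 5],
    [7, 0, 3, 0, 3, 4, 3, 4, 7],
    [2, 0, 2, 1, 1, 4, 5, 4, 6, 1],
    [2, 0, 6, 0, 3, 6, 3, 6, 7, 4],
    [2, 0, 6, 1, 1, 6, 4, 2, 5, 5],
    [2, 1, 1, 0, 5, 4, 6, 1, 2, 4],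
    [2, 5, 5, 2, 0, 6, 1, 1, 6, 4],
    [2, 5, 5, 2, 4, 6, 1, 1, 6, 4],
    [2, 5, 2, 5, 2, 5, 6, 6, 6, 5],
    [2, 2, 2, 5, 6, 6, 6, 6, 1, 2],
    [2, 2, 2, 2, 0, 6, 6, 6, 6, 4],
    [2, 2, 2, 2, 4, 6, 6, 6, 6, 4],
    [2, 2, 2, 2, 1, 6, 6, 6, 6, 5],
    [3, 0, 3, 5, 3, 4, 3, 4, 1, 4],
    [3, 5, 0, 7, 0, 7, 1, 4, 3, 4],
    [3, 5, 0, 7, 4, 7, 1, 4, 3, 4],
    [7, 0, 5, 3, 4, 3, 4, 1, 7, 4],
    [7, 0, 3, 0, 7, 7, 4, 3, 4, 7],
    [7, 0, 7, 1, 0, 3, 4, 3, 5, 4],
    [0, 1, 1, 6, 0, 6, 4, 6, 1, 4, 2],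
    [0, 1, 2, 0, 5, 5, 2, 2, 1, 2, 5],
    [0, 5, 0, 7, 0, 3, 3, 1, 7, 4, 7],
    [0, 2, 0, 2, 0, 6, 4, 6, 3, 4, 3],
    [0, 2, 5, 5, 0, 6, 4, 5, 2, 4, 2],
    [0, 6, 0, 5, 2, 0, 2, 4, 2, 5, 5],
    [0, 6, 0, 5, 2, 4, 2, 4, 2, 5, 5],
    [0, 3, 0, 1, 0, 7, 7, 4, 3, 5, 3],
    [0, 3, 0, 3, 5, 7, 7, 4, 3, 4, 1],
    [1, 1, 1, 1, 1, 1, 6, 6, 6, 6, 1],
    [1, 1, 1, 1, 1, 2, 2, 2, 2, 1, 1],
    [1, 1, 1, 1, 1, 6, 6, 6, 6, 1, 1],
    [1, 1, 2, 5, 6, 6, 1, 1, 6, 5, 6],
    [1, 1, 2, 5, 2, 0, 2, 2, 1, 1, 2, 4],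
    [1, 1, 3, 1, 7, 0, 3, 5, 7, 5, 5, 4],
    [1, 1, 3, 1, 7, 4, 3, 5, 7, 5, 5, 4],
    [1, 1, 7, 1, 0, 7, 5, 7, 5, 7, 5, 4],
    [1, 1, 7, 1, 1, 1, 7, 1, 4, 1, 3, 4],
    [5, 5, 7, 5, 7, 1, 4, 7, 1, 4, 7, 4],
    [0, 1, 0, 1, 0, 2, 2, 4, 1, 1, 4, 6, 6],
    [0, 1, 0, 1, 7, 0, 7, 5, 5, 5, 5, 5, 5],
    [0, 1, 1, 1, 3, 1, 0, 5, 3, 1, 3, 5, 3],
    [0, 1, 1, 3, 0, 3, 1, 3, 5, 4, 3, 1, 7],
    [0, 2, 3, 0, 3, 2, 0, 7, 2, 3, 2, 3, 6],
    [],
    [0, 4],
    [1, 5],
    [2, 6],
    [3, 7],
    [4, 0],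
    [5, 1],
    [6, 2],
    [7, 3],
    [0],
    [1],
    [2]]
  PW := fun k => Nat.land (Nat.shiftRight 0x3000000000000000200000000000000010000000000000088000000000000006700000000000000460000000000000025000000000000010400000000000000e300000000000000c200000000000000a10000000000000000720c8340464090618110a6208812084143104430444108416318c6320281044173944228c611044102a0a241448320c6029045120421204202990641901120420298c8310a8110420298c83102811042028c4218c2330c42001cc7108e730c4200084739ce21084200084318c62108420008e739c42108420008a42a106204810010c42a101104810018c328ca3304e10018c328c23304e1000ca3314e1318610010a4394e1184610020a811081404c100186218cc608c41000ca2394e1388410000a6214811202800010521508090280000a811485218280000a428905404c40000a428901404c40000a2290a4310240000c739ce218c630000a739ce518c630000a739ce118c6300006239ce730c630000c739cc330cc30000a7108e5198c30000a7108e1198c30000a311ca6088430000c6194e211c230000a8390e409c23000047298a210c23000008290a409028000000310c4310c4000000290a429024000000290a40902400000018c6318c630000000006340c68000000000e721ce4000000000e439c87000000000000108400000000000000a50000000000000021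 (Nat.mul 64 k)) 0xffffffffffffffff
  powers := [
    ([0, 0], 1),
    ([4, 4], 1),
    ([3, 3, 3], 1),
    ([6, 3, 6, 6, 3, 6], 1),
    ([3, 6, 6, 3, 6, 6], 1),
    ([7, 2, 2, 7, 2, 2], 1),
    ([2, 2, 2, 2, 2, 2, 2, 2], 1),
    ([3, 0, 3, 0, 3, 4, 3, 4], 1),
    ([3, 0, 3, 4, 3, 4, 3, 4], 1),
    ([3, 5, 3, 5, 3, 5, 3, 5], 1),
    ([7, 0, 3, 0, 3, 4, 3, 4, 7], 1),
    ([2, 0, 2, 1, 1, 4, 5, 4, 6, 1], 1),
    ([2, 0, 6, 0, 3, 6, 3, 6, 7, 4], 1),
    ([2, 0, 6, 1, 1, 6, 4, 2, 5, 5], 1),
    ([2, 1, 1, 0, 5, 4, 6, 1, 2, 4], 1),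
    ([2, 5, 5, 2, 0, 6, 1, 1, 6, 4], 1),
    ([2, 5, 5, 2, 4, 6, 1, 1, 6, 4], 1),
    ([2, 5, 2, 5, 2, 5, 6, 6, 6, 5], 1),
    ([2, 2, 2, 5, 6, 6, 6, 6, 1, 2], 1),
    ([2, 2, 2, 2, 0, 6, 6, 6, 6, 4], 1),
    ([2, 2, 2, 2, 4, 6, 6, 6, 6, 4], 1),
    ([2, 2, 2, 2, 1, 6, 6, 6, 6, 5], 1),
    ([3, 0, 3, 5, 3, 4, 3, 4, 1, 4], 1),
    ([3, 5, 0, 7, 0, 7, 1, 4, 3, 4], 1),
    ([3, 5, 0, 7, 4, 7, 1, 4, 3, 4], 1),
    ([7, 0, 5, 3, 4, 3, 4, 1, 7, 4], 1),
    ([7, 0, 3, 0, 7, 7, 4, 3, 4, 7], 1),
    ([7, 0, 7, 1, 0, 3, 4, 3, 5, 4], 1),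
    ([0, 1, 1, 6, 0, 6, 4, 6, 1, 4, 2], 1),
    ([0, 1, 2, 0, 5, 5, 2, 2, 1, 2, 5], 1),
    ([0, 5, 0, 7, 0, 3, 3, 1, 7, 4, 7], 1),
    ([0, 2, 0, 2, 0, 6, 4, 6, 3, 4, 3], 1),
    ([0, 2, 5, 5, 0, 6, 4, 5, 2, 4, 2], 1),
    ([0, 6, 0, 5, 2, 0, 2, 4, 2, 5, 5], 1),
    ([0, 6, 0, 5, 2, 4, 2, 4, 2, 5, 5], 1),
    ([0, 3, 0, 1, 0, 7, 7, 4, 3, 5, 3], 1),
    ([0, 3, 0, 3, 5, 7, 7, 4, 3, 4, 1], 1),
    ([1, 1, 1, 1, 1, 1, 6, 6, 6, 6, 1], 1),
    ([1, 1, 1, 1, 1, 2, 2, 2, 2, 1, 1], 1),
    ([1, 1, 1, 1, 1, 6, 6, 6, 6, 1, 1], 1),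
    ([1, 1, 2, 5, 6, 6, 1, 1, 6, 5, 6], 1),
    ([1, 1, 2, 5, 2, 0, 2, 2, 1, 1, 2, 4], 1),
    ([1, 1, 3, 1, 7, 0, 3, 5, 7, 5, 5, 4], 1),
    ([1, 1, 3, 1, 7, 4, 3, 5, 7, 5, 5, 4], 1),
    ([1, 1, 7, 1, 0, 7, 5, 7, 5, 7, 5, 4], 1),
    ([1, 1, 7, 1, 1, 1, 7, 1, 4, 1, 3, 4], 1),
    ([5, 5, 7, 5, 7, 1, 4, 7, 1, 4, 7, 4], 1),
    ([0, 1, 0, 1, 0, 2, 2, 4, 1, 1, 4, 6, 6], 1),
    ([0, 1, 0, 1, 7, 0, 7, 5, 5, 5, 5, 5, 5], 1),
    ([0, 1, 1, 1, 3, 1, 0, 5, 3, 1, 3, 5, 3], 1),
    ([0, 1, 1, 3, 0, 3, 1, 3, 5, 4, 3, 1, 7], 1),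
    ([0, 2, 3, 0, 3, 2, 0, 7, 2, 3, 2, 3, 6], 1),
    ([], 1),
    ([0, 4], 1),
    ([1, 5], 1),
    ([2, 6], 1),
    ([3, 7], 1),
    ([4, 0], 1),
    ([5, 1], 1),
    ([6, 2], 1),
    ([7, 3], 1)]

/-- The relators. -/
def relWords : List (List (Fin 4 × Bool)) := [
    [(0, true), (0, true)],
    [(0, false), (0, false)],
    [(3, true), (3, true), (3, true)],
    [(2, false), (3, true), (2, false), (2, false), (3, true), (2, false)],
    [(3, true), (2, false), (2, false), (3, true), (2, false), (2, false)],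
    [(3, false), (2, true), (2, true), (3, false), (2, true), (2, true)],
    [(2, true), (2, true), (2, true), (2, true), (2, true), (2, true), (2, true), (2, true)],
    [(3, true), (0, true), (3, true), (0, true), (3, true), (0, false), (3, true), (0, false)],
    [(3, true), (0, true), (3, true), (0, false), (3, true), (0, false), (3, true), (0, false)],
    [(3, true), (1, false), (3, true), (1, false), (3, true), (1, false), (3, true), (1, false)],
    [(3, false), (0, true), (3, true), (0, true), (3, true), (0, false), (3, true), (0, false), (3, false)],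
    [(2, true), (0, true), (2, true), (1, true), (1, true), (0, false), (1, false), (0, false), (2, false), (1, true)],
    [(2, true), (0, true), (2, false), (0, true), (3, true), (2, false), (3, true), (2, false), (3, false), (0, false)],
    [(2, true), (0, true), (2, false), (1, true), (1, true), (2, false), (0, false), (2, true), (1, false), (1, false)],
    [(2, true), (1, true), (1, true), (0, true), (1, false), (0, false), (2, false), (1, true), (2, true), (0, false)],
    [(2, true), (1, false), (1, false), (2, true), (0, true), (2, false), (1, true), (1, true), (2, false), (0, false)],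
    [(2, true), (1, false), (1, false), (2, true), (0, false), (2, false), (1, true), (1, true), (2, false), (0, false)],
    [(2, true), (1, false), (2, true), (1, false), (2, true), (1, false), (2, false), (2, false), (2, false), (1, false)],
    [(2, true), (2, true), (2, true), (1, false), (2, false), (2, false), (2, false), (2, false), (1, true), (2, true)],
    [(2, true), (2, true), (2, true), (2, true), (0, true), (2, false), (2, false), (2, false), (2, false), (0, false)],
    [(2, true), (2, true), (2, true), (2, true), (0, false), (2, false), (2, false), (2, false), (2, false), (0, false)],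
    [(2, true), (2, true), (2, true), (2, true), (1, true), (2, false), (2, false), (2, false), (2, false), (1, false)],
    [(3, true), (0, true), (3, true), (1, false), (3, true), (0, false), (3, true), (0, false), (1, true), (0, false)],
    [(3, true), (1, false), (0, true), (3, false), (0, true), (3, false), (1, true), (0, false), (3, true), (0, false)],
    [(3, true), (1, false), (0, true), (3, false), (0, false), (3, false), (1, true), (0, false), (3, true), (0, false)],
    [(3, false), (0, true), (1, false), (3, true), (0, false), (3, true), (0, false), (1, true), (3, false), (0, false)],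
    [(3, false), (0, true), (3, true), (0, true), (3, false), (3, false), (0, false), (3, true), (0, false), (3, false)],
    [(3, false), (0, true), (3, false), (1, true), (0, true), (3, true), (0, false), (3, true), (1, false), (0, false)],
    [(0, true), (1, true), (1, true), (2, false), (0, true), (2, false), (0, false), (2, false), (1, true), (0, false), (2, true)],
    [(0, true), (1, true), (2, true), (0, true), (1, false), (1, false), (2, true), (2, true), (1, true), (2, true), (1, false)],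
    [(0, true), (1, false), (0, true), (3, false), (0, true), (3, true), (3, true), (1, true), (3, false), (0, false), (3, false)],
    [(0, true), (2, true), (0, true), (2, true), (0, true), (2, false), (0, false), (2, false), (3, true), (0, false), (3, true)],
    [(0, true), (2, true), (1, false), (1, false), (0, true), (2, false), (0, false), (1, false), (2, true), (0, false), (2, true)],
    [(0, true), (2, false), (0, true), (1, false), (2, true), (0, true), (2, true), (0, false), (2, true), (1, false), (1, false)],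
    [(0, true), (2, false), (0, true), (1, false), (2, true), (0, false), (2, true), (0, false), (2, true), (1, false), (1, false)],
    [(0, true), (3, true), (0, true), (1, true), (0, true), (3, false), (3, false), (0, false), (3, true), (1, false), (3, true)],
    [(0, true), (3, true), (0, true), (3, true), (1, false), (3, false), (3, false), (0, false), (3, true), (0, false), (1, true)],
    [(1, true), (1, true), (1, true), (1, true), (1, true), (1, true), (2, false), (2, false), (2, false), (2, false), (1, true)],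
    [(1, true), (1, true), (1, true), (1, true), (1, true), (2, true), (2, true), (2, true), (2, true), (1, true), (1, true)],
    [(1, true), (1, true), (1, true), (1, true), (1, true), (2, false), (2, false), (2, false), (2, false), (1, true), (1, true)],
    [(1, true), (1, true), (2, true), (1, false), (2, false), (2, false), (1, true), (1, true), (2, false), (1, false), (2, false)],
    [(1, true), (1, true), (2, true), (1, false), (2, true), (0, true), (2, true), (2, true), (1, true), (1, true), (2, true), (0, false)],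
    [(1, true), (1, true), (3, true), (1, true), (3, false), (0, true), (3, true), (1, false), (3, false), (1, false), (1, false), (0, false)],
    [(1, true), (1, true), (3, true), (1, true), (3, false), (0, false), (3, true), (1, false), (3, false), (1, false), (1, false), (0, false)],
    [(1, true), (1, true), (3, false), (1, true), (0, true), (3, false), (1, false), (3, false), (1, false), (3, false), (1, false), (0, false)],
    [(1, true), (1, true), (3, false), (1, true), (1, true), (1, true), (3, false), (1, true), (0, false), (1, true), (3, true), (0, false)],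
    [(1, false), (1, false), (3, false), (1, false), (3, false), (1, true), (0, false), (3, false), (1, true), (0, false), (3, false), (0, false)],
    [(0, true), (1, true), (0, true), (1, true), (0, true), (2, true), (2, true), (0, false), (1, true), (1, true), (0, false), (2, false), (2, false)],
    [(0, true), (1, true), (0, true), (1, true), (3, false), (0, true), (3, false), (1, false), (1, false), (1, false), (1, false), (1, false), (1, false)],
    [(0, true), (1, true), (1, true), (1, true), (3, true), (1, true), (0, true), (1, false), (3, true), (1, true), (3, true), (1, false), (3, true)],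
    [(0, true), (1, true), (1, true), (3, true), (0, true), (3, true), (1, true), (3, true), (1, false), (0, false), (3, true), (1, true), (3, false)],
    [(0, true), (2, true), (3, true), (0, true), (3, true), (2, true), (0, true), (3, false), (2, true), (3, true), (2, true), (3, true), (2, false)]]

/-- The subgroup's generators. -/
def subLetters : List (Fin 4) := [0, 1, 2]

/-- The numbering of the generators. -/
def enc (b : Fin 4) : Nat := b.val

/-- The generator of a number. -/
def dec (x : Nat) : Fin 4 × Bool := if x < 4 then (Fin.ofNat 4 x, true) else (Fin.ofNat 4 x, false)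


end Cfsg.Agent.McLRecog.Top
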